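import Mathlib
import Groth.Agent.Lib.Helper26.FDim3

/-!
# Helper23 — BddAcyc.Map: a left exact functor preserves acyclicity of bounded below complexes
with acyclic terms
-/

set_option maxHeartbeats 400000
set_option autoImplicit false

universe w w' v v' u u'

open CategoryTheory CategoryTheory.Limits

namespace Groth.Agent.Lib.Helper23.BddAcyc

open Groth.Agent.Lib.Helper26.FDim2 Groth.Agent.Lib.Helper26.FDim3

variable {A : Type u} [Category.{v} A] [Abelian A] [EnoughInjectives A]
  {B : Type u'} [Category.{v'} B] [Abelian B] (F : A ⥤ B) [F.Additive] [PreservesFiniteLimits F]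

variable (L : CochainComplex A ℤ) (hL : L.Acyclic)

include hL

/-- if all cycles of an acyclic complex are `F`-acyclic, then `F` preserves its acyclicity -/
theorem acyclic_map_of_cycles (hZ : ∀ m, DimLE F 0 (L.cycles m)) :
    ((F.mapHomologicalComplex (ComplexShape.up ℤ)).obj L).Acyclic := by
  intro j
  rw [HomologicalComplex.exactAt_iff' _ (j - 1) j (j + 1) (by simp) (by simp)]
  have hS₁ := shortExact_map_of_dimLE_zero (F := F)
    (cyclesSC_shortExact L (j - 1) j (by omega) (hL j)) (hZ (j - 1))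
  have hS₂ := shortExact_map_of_dimLE_zero (F := F)
    (cyclesSC_shortExact L j (j + 1) rfl (hL (j + 1))) (hZ j)
  let K := (F.mapHomologicalComplex (ComplexShape.up ℤ)).obj L
  let S'' : ShortComplex B := ShortComplex.mk (F.map (L.iCycles j)) (F.map (L.d j (j + 1))) (by
    rw [← F.map_comp, L.iCycles_d, F.map_zero])
  have hS'' : S''.Exact := by
    let φ : (cyclesSC L j (j + 1)).map F ⟶ S'' :=
      { τ₁ := 𝟙 _
        τ₂ := 𝟙 _
        τ₃ := F.map (L.iCycles (j + 1))
        comm₁₂ := by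
          change 𝟙 _ ≫ F.map (L.iCycles j) = F.map (L.iCycles j) ≫ 𝟙 _
          rw [Category.id_comp, Category.comp_id]
        comm₂₃ := by
          change 𝟙 _ ≫ F.map (L.d j (j + 1)) =
            F.map (L.toCycles j (j + 1)) ≫ F.map (L.iCycles (j + 1))
          rw [Category.id_comp, ← F.map_comp, L.toCycles_i] }
    haveI : Epi φ.τ₁ := inferInstanceAs (Epi (𝟙 _))
    haveI : IsIso φ.τ₂ := inferInstanceAs (IsIso (𝟙 _))
    haveI : Mono φ.τ₃ := inferInstanceAs (Mono (F.map (L.iCycles (j + 1))))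
    exact (ShortComplex.exact_iff_of_epi_of_isIso_of_mono φ).1 hS₂.exact
  let ψ : K.sc' (j - 1) j (j + 1) ⟶ S'' :=
    { τ₁ := F.map (L.toCycles (j - 1) j)
      τ₂ := 𝟙 _
      τ₃ := 𝟙 _
      comm₁₂ := by
        change F.map (L.toCycles (j - 1) j) ≫ F.map (L.iCycles j) = F.map (L.d (j - 1) j) ≫ 𝟙 _
        rw [← F.map_comp, L.toCycles_i, Category.comp_id]
      comm₂₃ := by
        change 𝟙 _ ≫ F.map (L.d j (j + 1)) = F.map (L.d j (j + 1)) ≫ 𝟙 _
        simp }
  haveI : Epi ψ.τ₁ := hS₁.epi_g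
  haveI : IsIso ψ.τ₂ := inferInstanceAs (IsIso (𝟙 _))
  haveI : Mono ψ.τ₃ := inferInstanceAs (Mono (𝟙 _))
  exact (ShortComplex.exact_iff_of_epi_of_isIso_of_mono ψ).2 hS''

omit [PreservesFiniteLimits F] in
/-- the cycles of a bounded below acyclic complex with `F`-acyclic terms are `F`-acyclic -/
theorem dimLE_cycles_of_bddBelow (hterms : ∀ m, DimLE F 0 (L.X m)) (a : ℤ)
    (ha : ∀ m : ℤ, m < a → IsZero (L.X m)) : ∀ m, DimLE F 0 (L.cycles m) := by
  have hz : ∀ m : ℤ, m < a → DimLE F 0 (L.cycles m) := by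
    intro m hm
    refine dimLE_zero_obj (F := F) 0 _ ?_
    rw [IsZero.iff_id_eq_zero, ← cancel_mono (L.iCycles m)]
    exact (ha m hm).eq_of_tgt _ _
  have key : ∀ k : ℕ, DimLE F 0 (L.cycles (a - 1 + k)) := by
    intro k
    induction k with
    | zero => exact hz _ (by simp)
    | succ k ih =>
      have hS := cyclesSC_shortExact L (a - 1 + k) (a - 1 + (k + 1 : ℕ)) (by push_cast; ring)
        (hL _)
      exact DimLE.X₃ hS (ih.mono (Nat.zero_le 1)) (hterms _)
  intro m
  by_cases hm : m < a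
  · exact hz m hm
  · obtain ⟨k, hk⟩ := Int.eq_ofNat_of_zero_le (show 0 ≤ m - (a - 1) by omega)
    have : m = a - 1 + k := by omega
    rw [this]
    exact key k

/-- **a left exact functor preserves acyclicity of bounded below complexes with acyclic terms** -/
theorem acyclic_map_of_bddBelow (hterms : ∀ m, DimLE F 0 (L.X m)) (a : ℤ)
    (ha : ∀ m : ℤ, m < a → IsZero (L.X m)) :
    ((F.mapHomologicalComplex (ComplexShape.up ℤ)).obj L).Acyclic :=
  acyclic_map_of_cycles F L hL (dimLE_cycles_of_bddBelow F L hL hterms a ha)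

end Groth.Agent.Lib.Helper23.BddAcyc
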