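import Mathlib
import Groth.Agent.Lib.Helper23.BddAcyc.Map
import Groth.Agent.Lib.Helper26.FDim7
import Groth.Agent.Lib.Helper8.KInjDer

/-!
# Helper23 — BddAcyc.Unit: bounded below complexes with acyclic terms compute total right derived
functors
-/

set_option maxHeartbeats 400000
set_option autoImplicit false

universe w w' v v' u u'

open CategoryTheory CategoryTheory.Limits CategoryTheory.Pretriangulated

namespace Groth.Agent.Lib.Helper23.BddAcyc

open Groth.Agent.Lib.Helper26.FDim2 Groth.Agent.Lib.Helper26.FDim7 Groth.Agent.Lib.Helper8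

variable {A : Type u} [Category.{v} A] [Abelian A] [EnoughInjectives A] [HasDerivedCategory.{w} A]
  {B : Type u'} [Category.{v'} B] [Abelian B] [HasDerivedCategory.{w'} B]
  (F : A ⥤ B) [F.Additive] [PreservesFiniteLimits F]

/-- `G F` kills (the images of) acyclic complexes whose image under `F` is acyclic -/
lemma isZero_G_obj_quotient (L : CochainComplex A ℤ)
    (hFL : ((F.mapHomologicalComplex (ComplexShape.up ℤ)).obj L).Acyclic) :
    IsZero ((G F).obj ((HomotopyCategory.quotient A (ComplexShape.up ℤ)).obj L)) := by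
  refine IsZero.of_iso (isZero_Q_obj_of_acyclic _ hFL) ?_
  exact DerivedCategory.Qh.mapIso ((F.mapHomotopyCategoryFactors (ComplexShape.up ℤ)).app L) ≪≫
    (DerivedCategory.quotientCompQhIso B).app _

/-- `G F` inverts quasi-isomorphisms between bounded below complexes with `F`-acyclic terms -/
lemma isIso_G_map {K I : CochainComplex A ℤ} (φ : K ⟶ I) [QuasiIso φ]
    (hK : ∀ m, DimLE F 0 (K.X m)) (hI : ∀ m, DimLE F 0 (I.X m)) (a : ℤ)
    (haK : ∀ m : ℤ, m < a → IsZero (K.X m)) (haI : ∀ m : ℤ, m < a → IsZero (I.X m)) :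
    IsIso ((G F).map ((HomotopyCategory.quotient A (ComplexShape.up ℤ)).map φ)) := by
  have hT := HomotopyCategory.mappingCone_triangleh_distinguished φ
  have hT' := (G F).map_distinguished _ hT
  have hac : (CochainComplex.mappingCone φ).Acyclic := by
    rw [← HomotopyCategory.quotient_obj_mem_subcategoryAcyclic_iff_acyclic]
    have h1 : (HomotopyCategory.subcategoryAcyclic A).trW
        ((HomotopyCategory.quotient A (ComplexShape.up ℤ)).map φ) := by
      rw [← HomotopyCategory.quasiIso_eq_trW_subcategoryAcyclic,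
        HomotopyCategory.quotient_map_mem_quasiIso_iff]
      exact (HomologicalComplex.mem_quasiIso_iff φ).2 inferInstance
    exact ((HomotopyCategory.subcategoryAcyclic A).trW_iff_of_distinguished _ hT).1 h1
  have hterms : ∀ m, DimLE F 0 ((CochainComplex.mappingCone φ).X m) := fun m =>
    DimLE.of_iso (HomologicalComplex.homotopyCofiber.XIsoBiprod φ m (m + 1) rfl).symm
      (DimLE.biprod (hK (m + 1)) (hI m))
  have hbdd : ∀ m : ℤ, m < a - 1 → IsZero ((CochainComplex.mappingCone φ).X m) := by
    intro m hm
    refine IsZero.of_iso ?_ (HomologicalComplex.homotopyCofiber.XIsoBiprod φ m (m + 1) rfl)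
    rw [IsZero.iff_id_eq_zero]
    apply biprod.hom_ext
    · exact (haK (m + 1) (by omega)).eq_of_tgt _ _
    · exact (haI m (by omega)).eq_of_tgt _ _
  have hFL := acyclic_map_of_bddBelow F _ hac hterms (a - 1) hbdd
  have hz : IsZero ((G F).mapTriangle.obj (CochainComplex.mappingCone.triangleh φ)).obj₃ :=
    isZero_G_obj_quotient F _ hFL
  exact (Triangle.isZero₃_iff_isIso₁ _ hT').1 hz

/-- **the unit of the total right derived functor is an isomorphism on bounded below complexes with
`F`-acyclic terms** -/
theorem isIso_unit_of_bddBelow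
    (hKinj : ∀ X : HomotopyCategory A (ComplexShape.up ℤ),
      ∃ (J : HomotopyCategory A (ComplexShape.up ℤ)) (_ : KInjDer.kinj J) (s : X ⟶ J),
        HomotopyCategory.quasiIso A (ComplexShape.up ℤ) s)
    [(G F).HasRightDerivedFunctor (HomotopyCategory.quasiIso A (ComplexShape.up ℤ))]
    (K : CochainComplex A ℤ) (a : ℤ) [K.IsStrictlyGE a] (hK : ∀ m, DimLE F 0 (K.X m)) :
    IsIso (((G F).totalRightDerivedUnit DerivedCategory.Qh
      (HomotopyCategory.quasiIso A (ComplexShape.up ℤ))).app
        ((HomotopyCategory.quotient A (ComplexShape.up ℤ)).obj K)) := by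
  obtain ⟨L, hL, i, hi⟩ := CochainComplex.Plus.exists_quasiIso_injective
    (⟨K, a, inferInstance⟩ : CochainComplex.Plus A) a
  let I : CochainComplex A ℤ := ((InjectiveObject.ι A).mapHomologicalComplex (.up ℤ)).obj L.obj
  let φ : K ⟶ I := i.hom
  haveI : QuasiIso φ := (HomologicalComplex.mem_quasiIso_iff φ).1 hi
  haveI : I.IsKInjective := inferInstance
  haveI : I.IsStrictlyGE a :=
    (CochainComplex.isStrictlyGE_mapHomologicalComplex_obj_iff _ (InjectiveObject.ι A) a).2 hL
  have hI : ∀ m, DimLE F 0 (I.X m) := fun m => by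
    haveI : Injective (I.X m) := (L.obj.X m).property
    exact dimLE_of_injective 0 _
  have haK : ∀ m : ℤ, m < a → IsZero (K.X m) := fun m hm => K.isZero_of_isStrictlyGE a m hm
  have haI : ∀ m : ℤ, m < a → IsZero (I.X m) := fun m hm => I.isZero_of_isStrictlyGE a m hm
  let η := (G F).totalRightDerivedUnit DerivedCategory.Qh
      (HomotopyCategory.quasiIso A (ComplexShape.up ℤ))
  let q := HomotopyCategory.quotient A (ComplexShape.up ℤ)
  haveI h1 : IsIso ((G F).map (q.map φ)) := isIso_G_map F φ hK hI a haK haI
  haveI h2 : IsIso (η.app (q.obj I)) := KInjDer.isIso_unit hKinj (G F) (q.obj I) (show I.IsKInjective from inferInstance)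
  haveI h3 : IsIso (DerivedCategory.Qh.map (q.map φ)) :=
    Localization.inverts DerivedCategory.Qh (HomotopyCategory.quasiIso A (ComplexShape.up ℤ)) _
      ((HomotopyCategory.quotient_map_mem_quasiIso_iff φ).2
        ((HomologicalComplex.mem_quasiIso_iff φ).2 inferInstance))
  have nat := η.naturality (q.map φ)
  have h4 : IsIso (η.app (q.obj K) ≫ (DerivedCategory.Qh ⋙ (G F).totalRightDerived
      DerivedCategory.Qh (HomotopyCategory.quasiIso A (ComplexShape.up ℤ))).map (q.map φ)) := by
    rw [← nat]
    infer_instance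
  haveI h5 : IsIso ((DerivedCategory.Qh ⋙ (G F).totalRightDerived
      DerivedCategory.Qh (HomotopyCategory.quasiIso A (ComplexShape.up ℤ))).map (q.map φ)) := by
    rw [Functor.comp_map]
    infer_instance
  exact IsIso.of_isIso_comp_right _ ((DerivedCategory.Qh ⋙ (G F).totalRightDerived
      DerivedCategory.Qh (HomotopyCategory.quasiIso A (ComplexShape.up ℤ))).map (q.map φ))

end Groth.Agent.Lib.Helper23.BddAcyc
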